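import Groth.Agent.NagataNorm.Basic
import Groth.Agent.Hensel.HenselizationNoeth
import Mathlib.AlgebraicGeometry.Fiber
import Mathlib.AlgebraicGeometry.Morphisms.Flat

/-!
# Local noetherianity and finitely generated field extensions
-/

universe u

set_option autoImplicit false
set_option linter.style.haveILetI false
set_option backward.isDefEq.respectTransparency false

open CategoryTheory Limits AlgebraicGeometry TensorProduct

namespace Groth.Agent.FieldExtNoeth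

/-- Noetherianity and field extensions: ascent along finitely generated ones, descent along all. -/
theorem isNoetherianRing_iff {A A' B B' : Type u} [CommRing A] [CommRing A'] [CommRing B] [CommRing B']
    [Algebra A A'] [Algebra A B] [Algebra A' B'] [Algebra B B'] [Algebra A B'] [IsScalarTower A A' B']
    [IsScalarTower A B B'] [Algebra.IsPushout A B A' B'] [Nontrivial A'] (hA : IsField A)
    [Algebra.EssFiniteType A A'] : IsNoetherianRing B ↔ IsNoetherianRing B' := by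
  letI := hA.toField
  let e := Algebra.IsPushout.equiv A B A' B'
  haveI : Module.FaithfullyFlat B B' := Module.FaithfullyFlat.of_linearEquiv B (B ⊗[A] A') e.toLinearEquiv.symm
  haveI : Algebra.EssFiniteType B B' := (Algebra.EssFiniteType.iff_of_algEquiv e).1 inferInstance
  exact ⟨fun _ => Algebra.EssFiniteType.isNoetherianRing B B', fun _ => Hensel.isNoetherianRing_of_faithfullyFlat (S := B')⟩

/-- A scheme over a field is locally noetherian iff it is after a finitely generated field extension. -/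
theorem isLocallyNoetherian_iff {K K' : CommRingCat.{u}} (hK : IsField K) [Nontrivial K'] (φ : K ⟶ K')
    (hφ : φ.hom.EssFiniteType) {W W' : Scheme.{u}} {p : W ⟶ Spec K} {p' : W' ⟶ Spec K'} {q : W' ⟶ W}
    (sq : IsPullback q p' p (Spec.map φ)) : IsLocallyNoetherian W ↔ IsLocallyNoetherian W' := by
  haveI : IsAffineHom q := MorphismProperty.of_isPullback sq.flip inferInstance
  have e₁ : ⊤ ≤ Spec.map φ ⁻¹ᵁ (⊤ : (Spec K).Opens) := le_top
  letI : Algebra Γ(Spec K, ⊤) Γ(Spec K', ⊤) := ((Spec.map φ).appLE ⊤ ⊤ e₁).hom.toAlgebra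
  have hA : IsField Γ(Spec K, ⊤) := MulEquiv.isField hK (Scheme.ΓSpecIso K).commRingCatIsoToRingEquiv.toMulEquiv
  haveI : Algebra.EssFiniteType Γ(Spec K, ⊤) Γ(Spec K', ⊤) := by
    have h : (Spec.map φ).appLE ⊤ ⊤ e₁ = (Scheme.ΓSpecIso K).hom ≫ φ ≫ (Scheme.ΓSpecIso K').inv := by
      rw [← Scheme.ΓSpecIso_naturality_assoc, Iso.hom_inv_id, Category.comp_id]
      exact ((Spec.map φ).app_eq_appLE).symm
    have h2 : ((Scheme.ΓSpecIso K).hom ≫ φ ≫ (Scheme.ΓSpecIso K').inv).hom.EssFiniteType := by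
      simp only [CommRingCat.hom_comp]
      exact ((RingHom.FiniteType.of_surjective _
        (Scheme.ΓSpecIso K).commRingCatIsoToRingEquiv.surjective).essFiniteType.comp hφ).comp
        (RingHom.FiniteType.of_surjective _ (Scheme.ΓSpecIso K').symm.commRingCatIsoToRingEquiv.surjective).essFiniteType
    rw [← h] at h2
    exact h2
  haveI : Nontrivial Γ(Spec K', ⊤) := (Scheme.ΓSpecIso K').commRingCatIsoToRingEquiv.toEquiv.nontrivial
  have key : ∀ U : W.affineOpens, IsNoetherianRing Γ(W, U.1) ↔ IsNoetherianRing Γ(W', q ⁻¹ᵁ U.1) := fun U => by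
    have hUS : U.1 ≤ p ⁻¹ᵁ ⊤ := le_top
    have hU' : q ⁻¹ᵁ U.1 = q ⁻¹ᵁ U.1 ⊓ p' ⁻¹ᵁ ⊤ := by simp
    have hle : q ⁻¹ᵁ U.1 ≤ p' ⁻¹ᵁ ⊤ := le_top
    letI : Algebra Γ(Spec K, ⊤) Γ(W, U.1) := (p.appLE ⊤ U.1 hUS).hom.toAlgebra
    letI : Algebra Γ(Spec K', ⊤) Γ(W', q ⁻¹ᵁ U.1) := (p'.appLE ⊤ (q ⁻¹ᵁ U.1) hle).hom.toAlgebra
    letI : Algebra Γ(W, U.1) Γ(W', q ⁻¹ᵁ U.1) := (q.appLE U.1 (q ⁻¹ᵁ U.1) le_rfl).hom.toAlgebra
    letI : Algebra Γ(Spec K, ⊤) Γ(W', q ⁻¹ᵁ U.1) :=
      ((q.appLE U.1 (q ⁻¹ᵁ U.1) le_rfl).hom.comp (p.appLE ⊤ U.1 hUS).hom).toAlgebra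
    haveI : IsScalarTower Γ(Spec K, ⊤) Γ(W, U.1) Γ(W', q ⁻¹ᵁ U.1) := IsScalarTower.of_algebraMap_eq' rfl
    haveI : IsScalarTower Γ(Spec K, ⊤) Γ(Spec K', ⊤) Γ(W', q ⁻¹ᵁ U.1) := IsScalarTower.of_algebraMap_eq' (by
      show (q.appLE U.1 (q ⁻¹ᵁ U.1) le_rfl).hom.comp (p.appLE ⊤ U.1 hUS).hom =
        (p'.appLE ⊤ (q ⁻¹ᵁ U.1) hle).hom.comp ((Spec.map φ).appLE ⊤ ⊤ e₁).hom
      rw [← CommRingCat.hom_comp, ← CommRingCat.hom_comp]
      simp only [Scheme.Hom.appLE_comp_appLE, sq.w])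
    haveI : Algebra.IsPushout Γ(Spec K, ⊤) Γ(W, U.1) Γ(Spec K', ⊤) Γ(W', q ⁻¹ᵁ U.1) :=
      (CommRingCat.isPushout_iff_isPushout).mp
        ((isIso_pushoutSection_iff sq e₁ hUS hU').mp
          (isIso_pushoutSection_of_isAffineOpen sq e₁ hUS hU' (isAffineOpen_top _) (isAffineOpen_top _) U.2))
    exact isNoetherianRing_iff (A := Γ(Spec K, ⊤)) (A' := Γ(Spec K', ⊤)) hA
  constructor <;> intro h
  · refine isLocallyNoetherian_of_affine_cover (S := fun U : W.affineOpens => ⟨q ⁻¹ᵁ U.1, U.2.preimage q⟩) ?_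
      fun U => (key U).1 (IsLocallyNoetherian.component_noetherian U)
    rw [← Scheme.Hom.preimage_iSup, iSup_affineOpens_eq_top, Scheme.Hom.preimage_top]
  · exact ⟨fun U => (key U).2 (IsLocallyNoetherian.component_noetherian ⟨q ⁻¹ᵁ U.1, U.2.preimage q⟩)⟩

/-- Fibres of a base change along a morphism locally of finite type. -/
theorem fiber_iff {X Y X' Y' : Scheme.{u}} {f : X ⟶ Y} {f' : X' ⟶ Y'} {g' : X' ⟶ X} {g : Y' ⟶ Y}
    [LocallyOfFiniteType g] (hc : IsPullback g' f' f g) (y' : Y') :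
    IsLocallyNoetherian (f.fiber (g y')) ↔ IsLocallyNoetherian (f'.fiber y') :=
  isLocallyNoetherian_iff (Field.toIsField (Y.residueField (g y'))) (g.residueFieldMap y')
    (NagataNorm.residueFieldMap_essFiniteType g y') (isPullback_fiberToSpecResidueField_of_isPullback hc y')

end Groth.Agent.FieldExtNoeth
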